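import Cfsg.Agent.Lib.PcMult.Co2.Data3
import Cfsg.Agent.Lib.PcMult.Leech.Stab

/-!
Checks of the certificate for the prime 3.
-/

set_option autoImplicit false
set_option maxRecDepth 100000

namespace Cfsg.Agent.Lib.PcMult.Co2.P3

open Cfsg Cfsg.Agent.Lib.PcMult

theorem cert : C.check (vecOps 3) = true := by decide +kernel

theorem e0 : D.elemOk 0 = true := by decide +kernel

theorem e1 : D.elemOk 1 = true := by decide +kernel

theorem e2 : D.elemOk 2 = true := by decide +kernel

theorem e3 : D.elemOk 3 = true := by decide +kernel

theorem e4 : D.elemOk 4 = true := by decide +kernel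

theorem e5 : D.elemOk 5 = true := by decide +kernel

theorem e6 : D.elemOk 6 = true := by decide +kernel

theorem e7 : D.elemOk 7 = true := by decide +kernel

theorem e8 : D.elemOk 8 = true := by decide +kernel

theorem e9 : D.elemOk 9 = true := by decide +kernel

theorem r0 : D.rulesAt 0 = true := by decide +kernel

theorem r1 : D.rulesAt 1 = true := by decide +kernel

theorem r2 : D.rulesAt 2 = true := by decide +kernel

theorem r3 : D.rulesAt 3 = true := by decide +kernel

theorem r4 : D.rulesAt 4 = true := by decide +kernel

theorem r5 : D.rulesAt 5 = true := by decide +kernel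

theorem f0 : D.fusAt 0 = true := by decide +kernel

theorem f1 : D.fusAt 1 = true := by decide +kernel

theorem f2 : D.fusAt 2 = true := by decide +kernel

theorem f3 : D.fusAt 3 = true := by decide +kernel

theorem news : D.checkNew = true := by decide +kernel

theorem below : C.fus.all (fun qp => qp.1.all fun ab => (ab.1 ++ ab.2).all fun k => decide (k < C.R.n)) = true := by
  decide +kernel

theorem elems : D.checkElems = true := by
  have h : (List.range 10).all D.elemOk = true :=
    (Leech.Data.allUpTo_succ (Leech.Data.allUpTo_succ (Leech.Data.allUpTo_succ (Leech.Data.allUpTo_succ (Leech.Data.allUpTo_succ (Leech.Data.allUpTo_succ (Leech.Data.allUpTo_succ (Leech.Data.allUpTo_succ (Leech.Data.allUpTo_succ (Leech.Data.allUpTo_succ (rfl : (List.range 0).all D.elemOk = true) e0) e1) e2) e3) e4) e5) e6) e7) e8) e9)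
  simp only [Leech.Data.checkElems, Bool.and_eq_true, beq_iff_eq]
  exact ⟨⟨by decide +kernel, by decide +kernel⟩, h⟩

theorem rules : D.checkRules = true :=
  (congrArg (fun m => (List.range m).all D.rulesAt) (show D.C.R.n = 6 from rfl)).trans (Leech.Data.allUpTo_succ (Leech.Data.allUpTo_succ (Leech.Data.allUpTo_succ (Leech.Data.allUpTo_succ (Leech.Data.allUpTo_succ (Leech.Data.allUpTo_succ (rfl : (List.range 0).all D.rulesAt = true) r0) r1) r2) r3) r4) r5)

theorem fus : D.checkFus = true :=
  (congrArg (fun m => (List.range m).all D.fusAt) (show D.C.fus.length = 4 from rfl)).trans (Leech.Data.allUpTo_succ (Leech.Data.allUpTo_succ (Leech.Data.allUpTo_succ (Leech.Data.allUpTo_succ (rfl : (List.range 0).all D.fusAt = true) f0) f1) f2) f3)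

/-- The vector is fixed. -/
theorem fixes : Leech.fixAll Spor.vecU (D.gs ++ D.hs) = true := by decide +kernel

end Cfsg.Agent.Lib.PcMult.Co2.P3
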